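import Groth.Agent.Lib.ThetaDesc13.Data
import Groth.Prelude.Def_AlgGrp

/-!
The family of points of the theta group given by a lift of the kernel.
-/

set_option autoImplicit false
set_option backward.isDefEq.respectTransparency.types false

universe u

open CategoryTheory CategoryTheory.Limits MonoidalCategory CartesianMonoidalCategory MonObj AlgebraicGeometry
open CategoryTheory.Pseudofunctor

namespace Groth.Agent.ThetaDesc13

open ThetaGrp ThetaGrp19

set_option linter.unusedSectionVars false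

variable {S : Scheme.{u}} {A B : Over S} [GrpObj A] [IsCommMonObj A] [GrpObj B] {f : A ⟶ B} [IsMonHom f]
  {N : Over S} [GrpObj N] {i : N ⟶ A} [IsMonHom i] {L : A.left.Modules} {G : Over S} [GrpObj G]
  {u : thetaPts A L G}

theorem mul_comp_one {T : Over S} {a b : T ⟶ A} (h : a ≫ f = b ≫ f) :
    (a⁻¹ * b) ≫ f = toUnit T ≫ η[B] := by
  rw [MonObj.mul_comp, GrpObj.inv_comp, h, inv_mul_cancel, Hom.one_def]

/-- The point of the kernel between two points with the same image. -/
noncomputable def kerPt (hN : IsPullback i (toUnit N) f η[B]) {T : Over S} (a b : T ⟶ A)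
    (h : a ≫ f = b ≫ f) : T ⟶ N :=
  hN.lift (a⁻¹ * b) (toUnit T) (mul_comp_one h)

theorem kerPt_comp (hN : IsPullback i (toUnit N) f η[B]) {T : Over S} (a b : T ⟶ A)
    (h : a ≫ f = b ≫ f) : kerPt hN a b h ≫ i = a⁻¹ * b :=
  hN.lift_fst _ _ _

theorem isBaseChange_of_comp {T T' : Over S} {n : T ⟶ G} {g : T' ⟶ T} {n' : T' ⟶ G}
    {β : thetaPts A L T} {β' : thetaPts A L T'} {x : T ⟶ A} {x' : T' ⟶ A}
    (hn : g ≫ n = n') (hx : g ≫ x = x') (h : IsBaseChange β n u) (h' : IsBaseChange β' n' u)
    (hβ : IsOverPt β x) (hβ' : IsOverPt β' x') : IsBaseChange β' g β := by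
  refine hom_ext_of_cart (isCart_bcLift A L n) ?_ ?_
  · show β'.1.hom.base ≫ (A ◁ g).left = (A ◁ g).left ≫ β.1.hom.base
    rw [hβ, hβ', ← Over.comp_left, ← Over.comp_left, comp_transl g hx]
  · have e : β.1.hom ≫ bcLift A L n = bcLift A L n ≫ u.1.hom := h
    have e' : β'.1.hom ≫ bcLift A L n' = bcLift A L n' ≫ u.1.hom := h'
    rw [Category.assoc, bcLift_comp, hn, e', Category.assoc, e, ← Category.assoc, bcLift_comp, hn]

/-- A homomorphic lift of the kernel to the theta group gives a family of points. -/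
noncomputable def ofLift (hN : IsPullback i (toUnit N) f η[B]) (hG : IsThetaGrpSch A L G u) (j : N ⟶ G)
    [IsMonHom j]
    (hover : ∀ (T : Over S) (n : T ⟶ N) (β : thetaPts A L T),
      IsBaseChange β (n ≫ j) u → IsOverPt β (n ≫ i)) : DescPts L f where
  pt a b h := (hG.exists_bc _ (kerPt hN a b h ≫ j)).choose
  over_pt a b h := by
    rw [← kerPt_comp hN a b h]
    exact hover _ _ _ (hG.exists_bc _ _).choose_spec.1
  self {T} a := by
    have h0 : kerPt hN a a rfl = 1 := hN.hom_ext
      (by rw [kerPt_comp, inv_mul_cancel, MonObj.one_comp]) (toUnit_unique _ _)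
    have hb := (hG.exists_bc _ (kerPt hN a a rfl ≫ j)).choose_spec
    have h1 : kerPt hN a a rfl ≫ j = 1 := by rw [h0, MonObj.one_comp]
    have hm := hG.mul _ _ _ _ _ hb.1 hb.1
    rw [h1, _root_.one_mul, ← h1] at hm
    exact left_eq_mul.mp (hb.2 _ hm).symm
  trans {T} a b c h h' := by
    have hk : kerPt hN b c h' * kerPt hN a b h = kerPt hN a c (h.trans h') := hN.hom_ext
      (by rw [MonObj.mul_comp, kerPt_comp, kerPt_comp, kerPt_comp, mul_comm, _root_.mul_assoc,
        mul_inv_cancel_left]) (toUnit_unique _ _)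
    have hm := hG.mul _ _ _ _ _ (hG.exists_bc _ (kerPt hN b c h' ≫ j)).choose_spec.1
      (hG.exists_bc _ (kerPt hN a b h ≫ j)).choose_spec.1
    rw [← MonObj.mul_comp, hk] at hm
    exact (hG.exists_bc _ _).choose_spec.2 _ hm
  natural {T T'} g a b a' b' wa wb h h' := by
    have hk : g ≫ kerPt hN a b h = kerPt hN a' b' h' := hN.hom_ext
      (by rw [Category.assoc, kerPt_comp, kerPt_comp, MonObj.comp_mul, GrpObj.comp_inv, wa, wb])
      (toUnit_unique _ _)
    have hb := (hG.exists_bc _ (kerPt hN a b h ≫ j)).choose_spec.1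
    have hb' := (hG.exists_bc _ (kerPt hN a' b' h' ≫ j)).choose_spec.1
    exact isBaseChange_of_comp (u := u) (x := kerPt hN a b h ≫ i) (x' := kerPt hN a' b' h' ≫ i)
      (by rw [← Category.assoc, hk]) (by rw [← Category.assoc, hk]) hb hb' (hover _ _ _ hb) (hover _ _ _ hb')

end Groth.Agent.ThetaDesc13
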