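import Groth.Agent.Lib.ThetaDesc13.Mk
import Groth.Agent.Lib.QcohDesc12.Calc

/-!
Descent data on `L` along `f : A ⟶ B` out of a compatible family of points of the theta group.
-/

set_option autoImplicit false
set_option backward.isDefEq.respectTransparency.types false

universe u

open CategoryTheory CategoryTheory.Limits MonoidalCategory CartesianMonoidalCategory MonObj AlgebraicGeometry
open CategoryTheory.Pseudofunctor

namespace Groth.Agent.ThetaDesc13

open ThetaGrp ThetaGrp19

set_option linter.unusedSectionVars false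

variable {S : Scheme.{u}} {A B : Over S} [GrpObj A] (L : A.left.Modules)

/-- The structure morphism `(T, a^* L) ⟶ (A, L)`. -/
noncomputable def fin {T : Over S} (a : T ⟶ A) :
    ob ((Scheme.Modules.pullback a.left).obj L) ⟶ ob L :=
  mk a.left (𝟙 _)

theorem existsUnique_sect {T : Over S} (a : T ⟶ A) :
    ∃! m : ob ((Scheme.Modules.pullback a.left).obj L) ⟶ thetaObj A L T,
      m.base = (lift a (𝟙 T)).left ∧ m ≫ proj A L T = fin L a :=
  existsUnique_lift (isCart_proj A L T) (fin L a) (lift a (𝟙 T)).left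
    (show (lift a (𝟙 T)).left ≫ (fst A T).left = a.left by rw [← Over.comp_left, lift_fst])

/-- The graph section `(T, a^* L) ⟶ (A ⊗ T, L_T)`. -/
noncomputable def sect {T : Over S} (a : T ⟶ A) :
    ob ((Scheme.Modules.pullback a.left).obj L) ⟶ thetaObj A L T :=
  (existsUnique_sect L a).choose

theorem sect_base {T : Over S} (a : T ⟶ A) : (sect L a).base = (lift a (𝟙 T)).left :=
  (existsUnique_sect L a).choose_spec.1.1

theorem sect_proj {T : Over S} (a : T ⟶ A) : sect L a ≫ proj A L T = fin L a :=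
  (existsUnique_sect L a).choose_spec.1.2

theorem left_comp_eq {T T' : Over S} {g : T' ⟶ T} {a : T ⟶ A} {a' : T' ⟶ A} (w : g ≫ a = a') :
    g.left ≫ a.left = a'.left := by rw [← Over.comp_left, w]

/-- The restriction morphism `(T', a'^* L) ⟶ (T, a^* L)`. -/
noncomputable def res {T T' : Over S} (g : T' ⟶ T) (a : T ⟶ A) (a' : T' ⟶ A) (w : g ≫ a = a') :
    ob ((Scheme.Modules.pullback a'.left).obj L) ⟶ ob ((Scheme.Modules.pullback a.left).obj L) :=
  mk g.left ((ModLimH13.cmp g.left a.left (left_comp_eq w)).inv.app L)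

theorem res_fin {T T' : Over S} (g : T' ⟶ T) (a : T ⟶ A) (a' : T' ⟶ A) (w : g ≫ a = a') :
    res L g a a' w ≫ fin L a = fin L a' := by
  rw [res, fin, mk_comp_mk _ _ _ _ (left_comp_eq w), CategoryTheory.Functor.map_id, Category.id_comp,
    Iso.inv_hom_id_app]
  rfl

theorem res_sect {T T' : Over S} (g : T' ⟶ T) (a : T ⟶ A) (a' : T' ⟶ A) (w : g ≫ a = a') :
    res L g a a' w ≫ sect L a = sect L a' ≫ bcLift A L g := by
  refine hom_ext_of_cart (isCart_proj A L T) ?_ ?_
  · show g.left ≫ (sect L a).base = (sect L a').base ≫ (A ◁ g).left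
    rw [sect_base, sect_base, ← Over.comp_left, ← Over.comp_left, comp_lift, lift_whiskerLeft, w,
      Category.comp_id, Category.id_comp]
  · rw [Category.assoc, Category.assoc, sect_proj, bcLift_proj, sect_proj, res_fin]

/-- The transport of `a` by a point of the theta group. -/
noncomputable def tr {T : Over S} (a : T ⟶ A) (β : thetaPts A L T) :
    ob ((Scheme.Modules.pullback a.left).obj L) ⟶ ob L :=
  sect L a ≫ β.1.hom ≫ proj A L T

theorem tr_base {T : Over S} {a : T ⟶ A} {β : thetaPts A L T} {x : T ⟶ A} (hβ : IsOverPt β x) :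
    (tr L a β).base = (a * x).left := by
  show (sect L a).base ≫ β.1.hom.base ≫ (fst A T).left = _
  rw [sect_base, hβ, ← Over.comp_left, ← Over.comp_left, transl_fst, comp_mul, lift_fst, lift_snd_assoc,
    Category.id_comp]

theorem tr_one {T : Over S} (a : T ⟶ A) : tr L a 1 = fin L a := by
  show sect L a ≫ 𝟙 _ ≫ proj A L T = _
  rw [Category.id_comp, sect_proj]

theorem tr_res {T T' : Over S} (g : T' ⟶ T) (a : T ⟶ A) (a' : T' ⟶ A) (w : g ≫ a = a')
    {β : thetaPts A L T} {β' : thetaPts A L T'} (h : IsBaseChange β' g β) :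
    res L g a a' w ≫ tr L a β = tr L a' β' := by
  have h' : β'.1.hom ≫ bcLift A L g = bcLift A L g ≫ β.1.hom := h
  rw [tr, ← Category.assoc, res_sect, Category.assoc, ← reassoc_of% h', bcLift_proj, tr]

theorem vert_comp_sect {T : Over S} {a b x : T ⟶ A} {β : thetaPts A L T} (hβ : IsOverPt β x)
    (hx : a * x = b)
    {φ : (Scheme.Modules.pullback a.left).obj L ⟶ (Scheme.Modules.pullback b.left).obj L}
    (hφ : mk b.left φ = tr L a β) : vert φ ≫ sect L b = sect L a ≫ β.1.hom := by
  refine hom_ext_of_cart (isCart_proj A L T) ?_ ?_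
  · show 𝟙 T.left ≫ (sect L b).base = (sect L a).base ≫ β.1.hom.base
    rw [Category.id_comp, sect_base, sect_base, hβ, ← Over.comp_left]
    congr 1
    apply CartesianMonoidalCategory.hom_ext
    · rw [lift_fst, Category.assoc, transl_fst, comp_mul, lift_fst, lift_snd_assoc, Category.id_comp, hx]
    · rw [lift_snd, Category.assoc, transl_snd, lift_snd]
  · rw [Category.assoc, sect_proj, Category.assoc, fin, vert_comp_mk, Category.comp_id]
    exact hφ

theorem vert_comp_tr {T : Over S} {a b x : T ⟶ A} {β γ : thetaPts A L T} (hβ : IsOverPt β x)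
    (hx : a * x = b)
    {φ : (Scheme.Modules.pullback a.left).obj L ⟶ (Scheme.Modules.pullback b.left).obj L}
    (hφ : mk b.left φ = tr L a β) : vert φ ≫ tr L b γ = tr L a (γ * β) := by
  rw [tr, ← Category.assoc, vert_comp_sect L hβ hx hφ, Category.assoc, tr]
  show _ = sect L a ≫ (β.1.hom ≫ γ.1.hom) ≫ _
  rw [Category.assoc]

/-- A compatible family of points of the theta group over pairs of points with the same image. -/
structure DescPts (f : A ⟶ B) where
  pt : ∀ {T : Over S} (a b : T ⟶ A), a ≫ f = b ≫ f → thetaPts A L T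
  over_pt : ∀ {T : Over S} (a b : T ⟶ A) (h : a ≫ f = b ≫ f), IsOverPt (pt a b h) (a⁻¹ * b)
  self : ∀ {T : Over S} (a : T ⟶ A), pt a a rfl = 1
  trans : ∀ {T : Over S} (a b c : T ⟶ A) (h : a ≫ f = b ≫ f) (h' : b ≫ f = c ≫ f),
    pt b c h' * pt a b h = pt a c (h.trans h')
  natural : ∀ {T T' : Over S} (g : T' ⟶ T) (a b : T ⟶ A) (a' b' : T' ⟶ A) (_ : g ≫ a = a')
    (_ : g ≫ b = b') (h : a ≫ f = b ≫ f) (h' : a' ≫ f = b' ≫ f),
    IsBaseChange (pt a' b' h') g (pt a b h)

variable {L} {f : A ⟶ B} (P : DescPts L f)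

theorem exists_phi {T : Over S} (a b : T ⟶ A) (h : a ≫ f = b ≫ f) :
    ∃ φ : (Scheme.Modules.pullback a.left).obj L ⟶ (Scheme.Modules.pullback b.left).obj L,
      mk b.left φ = tr L a (P.pt a b h) :=
  exists_mk _ (by rw [tr_base L (P.over_pt a b h), mul_inv_cancel_left])

/-- The gluing morphism. -/
noncomputable def phi {T : Over S} (a b : T ⟶ A) (h : a ≫ f = b ≫ f) :
    (Scheme.Modules.pullback a.left).obj L ⟶ (Scheme.Modules.pullback b.left).obj L :=
  (exists_phi P a b h).choose

theorem mk_phi {T : Over S} (a b : T ⟶ A) (h : a ≫ f = b ≫ f) :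
    mk b.left (phi P a b h) = tr L a (P.pt a b h) :=
  (exists_phi P a b h).choose_spec

theorem phi_self {T : Over S} (a : T ⟶ A) : phi P a a rfl = 𝟙 _ :=
  mk_inj ((mk_phi P a a rfl).trans (by rw [P.self, tr_one, fin]))

theorem phi_comp {T : Over S} (a b c : T ⟶ A) (h : a ≫ f = b ≫ f) (h' : b ≫ f = c ≫ f) :
    phi P a b h ≫ phi P b c h' = phi P a c (h.trans h') :=
  mk_inj (by rw [← vert_comp_mk, mk_phi, mk_phi,
    vert_comp_tr L (P.over_pt a b h) (mul_inv_cancel_left a b) (mk_phi P a b h), P.trans])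

theorem phi_res {T T' : Over S} (g : T' ⟶ T) (a b : T ⟶ A) (a' b' : T' ⟶ A) (wa : g ≫ a = a')
    (wb : g ≫ b = b') (h : a ≫ f = b ≫ f) (h' : a' ≫ f = b' ≫ f) :
    (ModLimH13.cmp g.left a.left (left_comp_eq wa)).inv.app L ≫
      (Scheme.Modules.pullback g.left).map (phi P a b h) ≫
      (ModLimH13.cmp g.left b.left (left_comp_eq wb)).hom.app L = phi P a' b' h' :=
  mk_inj (by rw [← mk_comp_mk, mk_phi, mk_phi]
             exact tr_res L g a a' wa (P.natural g a b a' b' wa wb h h'))

theorem over_lift {Y : Scheme.{u}} {q : Y ⟶ B.left} {a : Y ⟶ A.left} (ha : a ≫ f.left = q) :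
    a ≫ A.hom = q ≫ B.hom := by
  rw [← ha, Category.assoc, Over.w f]

/-- A morphism to `A` over a morphism to `B`, as a point. -/
noncomputable def point {Y : Scheme.{u}} (q : Y ⟶ B.left) (a : Y ⟶ A.left) (ha : a ≫ f.left = q) :
    Over.mk (q ≫ B.hom) ⟶ A :=
  Over.homMk a (over_lift ha)

/-- The gluing morphism, on schemes. -/
noncomputable def glue {Y : Scheme.{u}} (q : Y ⟶ B.left) (a b : Y ⟶ A.left) (ha : a ≫ f.left = q)
    (hb : b ≫ f.left = q) :
    (Scheme.Modules.pullback a).obj L ⟶ (Scheme.Modules.pullback b).obj L :=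
  phi P (point q a ha) (point q b hb) (Over.OverMorphism.ext (ha.trans hb.symm))

theorem glue_res {Y Y' : Scheme.{u}} (g : Y' ⟶ Y) (q : Y ⟶ B.left) (q' : Y' ⟶ B.left) (hq : g ≫ q = q')
    (a b : Y ⟶ A.left) (ha : a ≫ f.left = q) (hb : b ≫ f.left = q) (ga gb : Y' ⟶ A.left)
    (hga : g ≫ a = ga) (hgb : g ≫ b = gb) (hga' : ga ≫ f.left = q') (hgb' : gb ≫ f.left = q') :
    (ModLimH13.cmp g a hga).inv.app L ≫ (Scheme.Modules.pullback g).map (glue P q a b ha hb) ≫
      (ModLimH13.cmp g b hgb).hom.app L = glue P q' ga gb hga' hgb' := by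
  let g' : Over.mk (q' ≫ B.hom) ⟶ Over.mk (q ≫ B.hom) :=
    Over.homMk g (show g ≫ q ≫ B.hom = q' ≫ B.hom by rw [reassoc_of% hq])
  exact phi_res P g' (point q a ha) (point q b hb) (point q' ga hga') (point q' gb hgb')
    (Over.OverMorphism.ext hga) (Over.OverMorphism.ext hgb) _ _

/-- The descent datum. -/
noncomputable def data : _root_.Desc.modPF.{u}.DescentData (fun _ : PUnit.{u + 1} => f.left) where
  obj _ := L
  hom Y q _ _ a b ha hb := glue P q a b ha hb
  pullHom_hom Y' Y g q q' hq _ _ a b ha hb ga gb hga hgb := by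
    show (_root_.Desc.modPF.{u}.mapComp' _ _ _ _).hom.toNatTrans.app _ ≫ _ ≫
      (_root_.Desc.modPF.{u}.mapComp' _ _ _ _).inv.toNatTrans.app _ = _
    rw [QcohDesc12.mapComp'_hom_app g a ga hga, QcohDesc12.mapComp'_inv_app g b gb hgb]
    exact glue_res P g q q' hq a b ha hb ga gb hga hgb _ _
  hom_self Y q _ a ha := phi_self P (point q a ha)
  hom_comp Y q _ _ _ a b c ha hb hc :=
    phi_comp P (point q a ha) (point q b hb) (point q c hc) _ _

end Groth.Agent.ThetaDesc13
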