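import Groth.Agent.Lib.ThetaGrp19.Cart
import Groth.Agent.Lib.ModLimH13.Sections

/-!
Morphisms of the Grothendieck construction of modules given by their two components.
-/

set_option autoImplicit false
set_option backward.isDefEq.respectTransparency.types false

universe u

open CategoryTheory CategoryTheory.Limits AlgebraicGeometry
open CategoryTheory.Pseudofunctor

namespace Groth.Agent.ThetaDesc13

open ThetaGrp ModLimH13

variable {X Y Z : Scheme.{u}}

/-- A module as an object of the Grothendieck construction. -/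
abbrev ob (M : X.Modules) : CoGrothendieck (modPF.{u}) := ⟨X, M⟩

/-- The morphism with components `g` and `φ`. -/
noncomputable def mk {M : X.Modules} {N : Y.Modules} (g : X ⟶ Y)
    (φ : M ⟶ (Scheme.Modules.pullback g).obj N) : ob M ⟶ ob N :=
  ⟨g, φ⟩

@[simp]
theorem mk_base {M : X.Modules} {N : Y.Modules} (g : X ⟶ Y)
    (φ : M ⟶ (Scheme.Modules.pullback g).obj N) : (mk g φ).base = g := rfl

theorem mk_inj {M : X.Modules} {N : Y.Modules} {g : X ⟶ Y}
    {φ φ' : M ⟶ (Scheme.Modules.pullback g).obj N} (h : mk g φ = mk g φ') : φ = φ' := by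
  have h' := CoGrothendieck.Hom.congr h
  exact h'.trans (Category.comp_id _)

theorem exists_mk {M : X.Modules} {N : Y.Modules} (m : ob M ⟶ ob N) {g : X ⟶ Y} (h : m.base = g) :
    ∃ φ : M ⟶ (Scheme.Modules.pullback g).obj N, mk g φ = m := by
  subst h
  exact ⟨m.fiber, rfl⟩

/-- The vertical morphism of a morphism of modules. -/
noncomputable def vert {M M' : X.Modules} (φ : M ⟶ M') : ob M ⟶ ob M' :=
  ⟨𝟙 X, φ ≫ (𝟙 (ob M') : ob M' ⟶ ob M').fiber⟩

theorem vert_comp_mk {M M' : X.Modules} {N : Y.Modules} (φ : M ⟶ M') (g : X ⟶ Y)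
    (ψ : M' ⟶ (Scheme.Modules.pullback g).obj N) : vert φ ≫ mk g ψ = mk g (φ ≫ ψ) := by
  refine CoGrothendieck.Hom.ext _ _ (Category.id_comp g) ?_
  have h := CoGrothendieck.Hom.congr (Category.id_comp (mk g ψ))
  change (φ ≫ _) ≫ _ = (φ ≫ ψ) ≫ _
  rw [Category.assoc φ, Category.assoc φ ψ]
  exact congrArg (φ ≫ ·) h

theorem mk_comp_mk {M : X.Modules} {N : Y.Modules} {P : Z.Modules} (g : X ⟶ Y)
    (φ : M ⟶ (Scheme.Modules.pullback g).obj N) (b : Y ⟶ Z)
    (ψ : N ⟶ (Scheme.Modules.pullback b).obj P) {b' : X ⟶ Z} (w : g ≫ b = b') :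
    mk g φ ≫ mk b ψ = mk b' (φ ≫ (Scheme.Modules.pullback g).map ψ ≫ (ModLimH13.cmp g b w).hom.app P) := by
  subst w
  refine CoGrothendieck.Hom.ext _ _ rfl ?_
  change φ ≫ (Scheme.Modules.pullback g).map ψ ≫ (Scheme.Modules.pullbackComp g b).hom.app P = _
  simp [ModLimH13.cmp, Scheme.Modules.pullbackCongr, mk]

theorem isCart_mk {M : X.Modules} {N : Y.Modules} (g : X ⟶ Y)
    (φ : M ⟶ (Scheme.Modules.pullback g).obj N) [IsIso φ] : ThetaGrp19.IsCart (mk g φ) :=
  inferInstanceAs (IsIso φ)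

end Groth.Agent.ThetaDesc13
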